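-- Team project CS3 (S4284, helper81), part [END]: all landed packages instantiated; only
-- [E7] and [II3] remain as hypotheses (helper79).
import Mathlib
import Cfsg.Agent.Lib.Helper79.CS3.EndAsm
import Cfsg.Agent.Lib.Helper79.CS3.EndI5
import Cfsg.Agent.Lib.Helper79.CS3.EndII5
import Cfsg.Agent.Lib.Helper71.CS3.EndB
import Cfsg.Agent.Lib.Helper1.CS3.EndE0
import Cfsg.Agent.Lib.Helper1.CS3.EndI1
import Cfsg.Agent.Lib.Helper1.CS3.EndII12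
import Cfsg.Agent.Lib.Helper10.CS3.EndCent
import Cfsg.Agent.Lib.Helper10.CS3.EndSylC
import Cfsg.Agent.Lib.Helper22.CS3.EndE5b
import Cfsg.Agent.Lib.Helper29.CS3.EndE5a
import Cfsg.Agent.Lib.Helper3.CS3.EndI3
import Cfsg.Agent.Lib.Helper3.CS3.EndI4a
import Cfsg.Agent.Lib.Helper3.CS3.EndI4b
import Cfsg.Agent.Lib.Helper45.CS3.EndII4
import Cfsg.Agent.Lib.Helper90.CS3.EndDF
import Cfsg.Agent.Lib.Helper96.CS3.EndOrb
import Cfsg.Agent.Lib.Helper96.CS3.EndPCen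
import Cfsg.Agent.Lib.Helper6.CS3.EndFPF

set_option autoImplicit false

namespace Cfsg.Agent.Lib.Helper79.CS3

open Cfsg.Agent.Lib.Helper81.CS3

universe u

/-- [END] from [E7] and [II3] alone. -/
theorem pkgEnd_of_rest (hE7 : PkgE7.{u}) (hII3 : PkgII3.{u}) : PkgEnd.{u} := by
  have hB0 : PkgB0.{u} := Cfsg.Agent.Lib.Helper71.CS3.pkgB0
  have hB3 : PkgB3.{u} := Cfsg.Agent.Lib.Helper71.CS3.pkgB3
  have hE0 : PkgE0.{u} := Cfsg.Agent.Lib.Helper1.CS3.pkgE0_of hB0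
  have hE1 : PkgE1.{u} := Cfsg.Agent.Lib.Helper1.CS3.pkgE1
  have hE4 : PkgE4.{u} := Cfsg.Agent.Lib.Helper1.CS3.pkgE4_of hE0
  have hE6 : PkgE6.{u} := Cfsg.Agent.Lib.Helper1.CS3.pkgE6
  have hCent : PkgCent.{u} := Cfsg.Agent.Lib.Helper10.CS3.pkgCent
  have hSylC : PkgSylC.{u} := Cfsg.Agent.Lib.Helper10.CS3.pkgSylC
  have hDF : PkgDF.{u} := Cfsg.Agent.Lib.Helper90.CS3.pkgDF
  have hOrb : PkgOrb.{u} := Cfsg.Agent.Lib.Helper96.CS3.pkgOrb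
  have hPCen : PkgPCen.{u} := Cfsg.Agent.Lib.Helper96.CS3.pkgPCen
  have hFPF : PkgFPF.{u} := Cfsg.Agent.Lib.Helper6.CS3.pkgFPF
  have hE5a : PkgE5a.{u} := Cfsg.Agent.Lib.Helper29.CS3.pkgE5a_of hCent hE1
  have hE5b : PkgE5b.{u} := Cfsg.Agent.Lib.Helper22.CS3.pkgE5b_of hE4 hE5a hE1 hB0
  have hI1 : PkgI1.{u} := Cfsg.Agent.Lib.Helper1.CS3.pkgI1_of hE1 hE4 hE5a hE7
  have hI3 : PkgI3.{u} := Cfsg.Agent.Lib.Helper3.CS3.pkgI3_of hI1 hDF hOrb hE4 hE5a hE0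
  have hI4a : PkgI4a.{u} := Cfsg.Agent.Lib.Helper3.CS3.pkgI4a_of hI1 hE6 hPCen
  have hI4b : PkgI4b.{u} := Cfsg.Agent.Lib.Helper3.CS3.pkgI4b_of hI1 hI3 hI4a hFPF
  have hI5 : PkgI5.{u} := pkgI5_of hI1 hE4 hE5a hSylC
  have hI6 : PkgI6.{u} := Cfsg.Agent.Lib.Helper22.CS3.pkgI6_of hI1
  have hII12 : PkgII12.{u} := Cfsg.Agent.Lib.Helper1.CS3.pkgII12_of hE4 hE5a hE7 hB3
  have hII4 : PkgII4.{u} := Cfsg.Agent.Lib.Helper45.CS3.pkgII4_of hE4 hII12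
  have hII5 : PkgII5.{u} := pkgII5_of hII4 hII12 hE7 hE4
  exact @pkgEnd_of.{u} hE0 hE1 hE5b hI3 hI4b hI5 hI6 hII3 hII5

end Cfsg.Agent.Lib.Helper79.CS3
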