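-- Team project CS3 (S4284, helper81), part [END]: all landed packages instantiated; only
-- [E7] remains as a hypothesis (helper79).
import Mathlib
import Cfsg.Agent.Lib.Helper79.CS3.EndRest
import Cfsg.Agent.Lib.Helper6.CS3.EndII3

set_option autoImplicit false

namespace Cfsg.Agent.Lib.Helper79.CS3

open Cfsg.Agent.Lib.Helper81.CS3

universe u

/-- [END] from [E7] alone. -/
theorem pkgEnd_of_E7 (hE7 : PkgE7.{u}) : PkgEnd.{u} := by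
  have hB0 : PkgB0.{u} := Cfsg.Agent.Lib.Helper71.CS3.pkgB0
  have hB3 : PkgB3.{u} := Cfsg.Agent.Lib.Helper71.CS3.pkgB3
  have hE0 : PkgE0.{u} := Cfsg.Agent.Lib.Helper1.CS3.pkgE0_of hB0
  have hE1 : PkgE1.{u} := Cfsg.Agent.Lib.Helper1.CS3.pkgE1
  have hE4 : PkgE4.{u} := Cfsg.Agent.Lib.Helper1.CS3.pkgE4_of hE0
  have hE6 : PkgE6.{u} := Cfsg.Agent.Lib.Helper1.CS3.pkgE6
  have hCent : PkgCent.{u} := Cfsg.Agent.Lib.Helper10.CS3.pkgCent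
  have hPCen : PkgPCen.{u} := Cfsg.Agent.Lib.Helper96.CS3.pkgPCen
  have hFPF : PkgFPF.{u} := Cfsg.Agent.Lib.Helper6.CS3.pkgFPF
  have hE5a : PkgE5a.{u} := Cfsg.Agent.Lib.Helper29.CS3.pkgE5a_of hCent hE1
  have hII12 : PkgII12.{u} := Cfsg.Agent.Lib.Helper1.CS3.pkgII12_of hE4 hE5a hE7 hB3
  have hII3 : PkgII3.{u} := Cfsg.Agent.Lib.Helper6.CS3.pkgII3_of hII12 hPCen hFPF hE6 hE7 hE4
  exact @pkgEnd_of_rest.{u} hE7 hII3

end Cfsg.Agent.Lib.Helper79.CS3
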