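-- Team project CS3 (S4284, helper81), part [END]: the unconditional package `pkgEnd`
-- (helper79, sub-coordinator).
import Mathlib
import Cfsg.Agent.Lib.Helper79.CS3.EndRest2
import Cfsg.Agent.Lib.Helper57.CS3.EndE7

set_option autoImplicit false

namespace Cfsg.Agent.Lib.Helper79.CS3

open Cfsg.Agent.Lib.Helper81.CS3

universe u

/-- [END], unconditional: a normal abelian Hall `π(n)`-subgroup gives the conclusion of S4284. -/
theorem pkgEnd : PkgEnd.{u} := by
  have hE1 : PkgE1.{u} := Cfsg.Agent.Lib.Helper1.CS3.pkgE1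
  have hCent : PkgCent.{u} := Cfsg.Agent.Lib.Helper10.CS3.pkgCent
  have hB4 : PkgB4.{u} := Cfsg.Agent.Lib.Helper71.CS3.pkgB4
  have hE7 : PkgE7.{u} := Cfsg.Agent.Lib.Helper57.CS3.pkgE7_of hE1 hCent hB4
  exact @pkgEnd_of_E7.{u} hE7

end Cfsg.Agent.Lib.Helper79.CS3
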